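import Cfsg.Agent.Lib.Grp.CT5.D0

set_option autoImplicit false
set_option maxRecDepth 100000
set_option Elab.async false

namespace Cfsg.Agent.CG.CT5

noncomputable def tabs : List ℕ := [t0,t1,t2,t3,t4,t5,t6,t7,t8,t9,t10,t11,t12,t13,t14,t15,t16,t17,t18,t19,t20,t21,t22,t23,t24,t25,t26]
noncomputable abbrev app : ℕ → ℕ → ℕ := appT tabs t27 0xff
noncomputable def slpL : List (Bool × List ℕ) := [(false,[]),
  (false,[]),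
  (false,[]),
  (false,[]),
  (false,[0,2,1,1,3,3,3]),
  (true,[4]),
  (false,[5,1,1,1,5,0,4]),
  (true,[6]),
  (false,[0,7,1,3,3,4,4]),
  (true,[8]),
  (false,[1,8,8,5,9,1,6,3,6]),
  (true,[10]),
  (false,[1,5,7,1,9,3,3,7]),
  (true,[12]),
  (false,[11,3,9,7,7,9,5,9,2,6,5]),
  (true,[14]),
  (false,[11,13,2,8,2,2,5,3,4,0,4,8]),
  (true,[16]),
  (false,[14,16,10,10,1,5,2,4,3,5,9,3,7]),
  (false,[11,12,0,9,4,0,7,4,6,3,9]),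
  (false,[16,10,10,2,1,3,1,5,8,4,4,8]),
  (false,[18]),
  (false,[20,19,18]),
  (false,[19]),
  (false,[16,14,20,18]),
  (false,[12,16,20,19,18]),
  (false,[2,1,10,15,16,18])]
noncomputable def slp (a : ℕ) : Bool × List ℕ := nth slpL (false, []) a
noncomputable def invL : List ℕ := [1,0,3,2,5,4,7,6,9,8,11,10,13,12,15,14,17,16,18,19,20,21,22,23,24,25,26]
noncomputable def inv (a : ℕ) : ℕ := nth invL 27 a
noncomputable def bs : List ℕ := [0,16,32,64]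
noncomputable def mc0 : Lvl := ⟨0, [0,1,2,3,4,5,6,7,8,9], 16,
  fun i => look 0xff mc0c (Nat.mul 8 i), fun i => look 0xff mc0p (Nat.mul 8 i),
  fun i => look 255 mc0l (Nat.mul 8 i), fun i => look 255 mc0i (Nat.mul 8 i), fun x => look 0xff mc0q x, 2⟩
noncomputable def mc1 : Lvl := ⟨16, [10,11,12,13], 14,
  fun i => look 0xff mc1c (Nat.mul 8 i), fun i => look 0xf mc1p (Nat.mul 4 i),
  fun i => look 255 mc1l (Nat.mul 8 i), fun i => look 255 mc1i (Nat.mul 8 i), fun x => look 0xff mc1q x, 3⟩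
noncomputable def mc2 : Lvl := ⟨32, [14,15,16,17], 12,
  fun i => look 0xff mc2c (Nat.mul 8 i), fun i => look 0xf mc2p (Nat.mul 4 i),
  fun i => look 255 mc2l (Nat.mul 8 i), fun i => look 255 mc2i (Nat.mul 8 i), fun x => look 0xff mc2q x, 3⟩
noncomputable def mc3 : Lvl := ⟨64, [18,19,20], 8,
  fun i => look 0xff mc3c (Nat.mul 8 i), fun i => look 0xf mc3p (Nat.mul 4 i),
  fun i => look 255 mc3l (Nat.mul 8 i), fun i => look 255 mc3i (Nat.mul 8 i), fun x => look 0xff mc3q x, 3⟩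
noncomputable def mc : List Lvl := [mc0, mc1, mc2, mc3]
noncomputable def tcR : List (List ℕ) := [[21,21],
  [22,22],
  [23,23],
  [21,22,21,22],
  [21,23,21,23],
  [22,23,22,23],
  [24,24],
  [24,22,24,22,24,22],
  [24,23,24,23,24,23],
  [24,21,24,21,24,21,24,21],
  [24,21,24,22,24,21,24,21,22],
  [24,21,24,23,24,21,24,21,23],
  [25,25],
  [25,21,25,21],
  [25,23,25,23],
  [25,22,25,21,22,23],
  [25,24,25,24,25,24],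
  [26,26],
  [26,21,26,21],
  [26,22,26,22],
  [26,23,26,23],
  [26,25,26,25],
  [26,24,26,24,26,24],
  [26,24,25,21,23,24,26,23,24,21,23,25,24,23]]
noncomputable def tc0T : List ℕ := [0,0,0,0,0,0,0,0,0,0,0,0,0,0,0,0,0,0,0,0,0,tc0t21,tc0t22,tc0t23,tc0t24,tc0t25,tc0t26]
noncomputable def tc0r : Tr Rule := (.node (.node (.node (.node (.node (.node (.leaf ⟨26,[26],17,1⟩) (.leaf ⟨25,[21,23,24,26,23,24,21,23,25,24,23,26,24],23,2⟩)) (.leaf ⟨21,[25,21,25],13,3⟩)) (.node (.node (.leaf ⟨21,[26,21,26],18,3⟩) (.leaf ⟨26,[25,26,25],21,0⟩)) (.leaf ⟨26,[24,26,24,26,24],22,4⟩))) (.node (.node (.node (.leaf ⟨23,[23],2,1⟩) (.leaf ⟨25,[23,25,23],14,2⟩)) (.leaf ⟨22,[23,25,22,25,21],15,4⟩)) (.node (.leaf ⟨23,[24,23,24,23,24],8,3⟩) (.leaf ⟨26,[25,26,25],21,2⟩)))) (.node (.node (.node (.node (.leaf ⟨21,[21],0,1⟩) (.leaf ⟨25,[21,22,23,25,22],15,2⟩)) (.leaf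 ⟨24,[23,24,23,24,23],8,4⟩)) (.node (.leaf ⟨22,[26,22,26],19,3⟩) (.leaf ⟨26,[22,26,22],19,2⟩))) (.node (.node (.node (.leaf ⟨21,[22,21,22],3,2⟩) (.leaf ⟨21,[24,21,24,21,24,21,24],9,3⟩)) (.leaf ⟨25,[26,25,26],21,3⟩)) (.node (.leaf ⟨22,[24,21,24,22,24,21,24,21],10,8⟩) (.leaf ⟨23,[25,24,23,26,24,25,21,23,24,26,23,24,21],23,10⟩))))) (.node (.node (.node (.node (.node (.leaf ⟨24,[24],6,1⟩) (.leaf ⟨23,[22,23,22],5,3⟩)) (.leaf ⟨23,[26,23,26],20,3⟩)) (.node (.leaf ⟨21,[24,21,24,21,24,21,24],9,5⟩) (.leaf ⟨26,[21,26,21],18,2⟩))) (.node (.node (.node (.leaf ⟨25,[25],12,1⟩) (.leaf ⟨23,[24,23,24,23,24],8,5⟩)) (.leaf ⟨23,[24,21,24,23,24,21,24,21],11,8⟩)) (.node (.leaf ⟨23,[25,23,25],14,3⟩) (.leaf ⟨24,[26,24,26,24,26],22,3⟩)))) (.node (.node (.node (.node (.leaf ⟨22,[22],1,1⟩) (.leaf ⟨25,[21,25,21],13,2⟩)) (.leaf ⟨22,[24,22,24,22,24],7,3⟩)) (.node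 (.leaf ⟨24,[22,24,22,24,22],7,4⟩) (.leaf ⟨26,[23,26,23],20,2⟩))) (.node (.node (.node (.leaf ⟨22,[23,22,23],5,2⟩) (.leaf ⟨25,[24,23,26,24,25,21,23,24,26,23,24,21,23],23,11⟩)) (.leaf ⟨24,[25,24,25,24,25],16,3⟩)) (.node (.leaf ⟨21,[24,23,24,21,24,21,23,24],11,1⟩) (.leaf ⟨21,[23,24,26,23,24,21,23,25,24,23,26,24,25],23,3⟩))))))
noncomputable def tc0 : TCL := ⟨[21,22,23,24,25,26], [21,22,23,24,25], 16, 20, 0x1ff, 9, 0x3f,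
  fun a x => look 0xfffff (nth tc0T 0 a) x, fun x => look 0xfffff tc0d x, tc0r⟩
noncomputable def tc1T : List ℕ := [0,0,0,0,0,0,0,0,0,0,0,0,0,0,0,0,0,0,0,0,0,tc1t21,tc1t22,tc1t23,tc1t24,tc1t25]
noncomputable def tc1r : Tr Rule := (.node (.node (.node (.node (.node (.leaf ⟨25,[25],12,1⟩) (.leaf ⟨24,[22,24,22,24,22],7,4⟩)) (.node (.leaf ⟨21,[25,21,25],13,3⟩) (.leaf ⟨22,[21,22,21],3,3⟩))) (.node (.node (.leaf ⟨23,[23],2,1⟩) (.leaf ⟨25,[21,25,21],13,2⟩)) (.leaf ⟨22,[24,22,24,22,24],7,3⟩))) (.node (.node (.node (.leaf ⟨21,[21],0,1⟩) (.leaf ⟨22,[24,21,24,22,24,21,24,21],10,8⟩)) (.leaf ⟨23,[25,23,25],14,3⟩)) (.node (.node (.leaf ⟨21,[23,21,23],4,2⟩) (.leaf ⟨21,[22,23,25,22,25],15,3⟩)) (.leaf ⟨21,[24,22,24,21,24,21,22,24],10,1⟩)))) (.node (.node (.node (.node (.leaf ⟨24,[24],6,1⟩) (.leaf ⟨23,[24,23,24,23,24],8,3⟩)) (.node (.leaf ⟨21,[24,21,24,21,24,21,24],9,5⟩)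 (.leaf ⟨24,[25,24,25,24,25],16,3⟩))) (.node (.node (.leaf ⟨21,[22,21,22],3,2⟩) (.leaf ⟨25,[23,25,23],14,2⟩)) (.leaf ⟨23,[24,21,24,23,24,21,24,21],11,8⟩))) (.node (.node (.node (.leaf ⟨22,[22],1,1⟩) (.leaf ⟨25,[24,25,24,25,24],16,4⟩)) (.leaf ⟨24,[23,24,23,24,23],8,4⟩)) (.node (.node (.leaf ⟨22,[23,22,23],5,2⟩) (.leaf ⟨23,[25,22,25,21,22],15,5⟩)) (.leaf ⟨22,[23,25,22,25,21],15,4⟩)))))
noncomputable def tc1 : TCL := ⟨[21,22,23,24,25], [21,22,23,24], 14, 20, 0x1ff, 9, 0x1f,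
  fun a x => look 0xfffff (nth tc1T 0 a) x, fun x => look 0xfffff tc1d x, tc1r⟩
noncomputable def tc2T : List ℕ := [0,0,0,0,0,0,0,0,0,0,0,0,0,0,0,0,0,0,0,0,0,tc2t21,tc2t22,tc2t23,tc2t24]
noncomputable def tc2r : Tr Rule := (.node (.node (.node (.node (.node (.leaf ⟨24,[24],6,1⟩) (.leaf ⟨23,[24,21,24,21,23,24,21,24],11,3⟩)) (.leaf ⟨24,[22,24,22,24,22],7,4⟩)) (.node (.leaf ⟨21,[22,21,22],3,2⟩) (.leaf ⟨21,[24,21,24,21,24,21,24],9,5⟩))) (.node (.node (.leaf ⟨22,[22],1,1⟩) (.leaf ⟨23,[24,23,24,23,24],8,3⟩)) (.node (.leaf ⟨22,[23,22,23],5,2⟩) (.leaf ⟨22,[24,21,24,21,22,24,21,24],10,3⟩)))) (.node (.node (.node (.node (.leaf ⟨21,[21],0,1⟩) (.leaf ⟨21,[24,21,23,24,21,24,23,24],11,5⟩)) (.leaf ⟨24,[23,24,23,24,23],8,4⟩)) (.node (.leaf ⟨21,[23,21,23],4,2⟩) (.leaf ⟨24,[21,22,24,21,24,22,24,21],10,6⟩))) (.node (.node (.leaf ⟨23,[23],2,1⟩) (.leaf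 ⟨22,[24,22,24,22,24],7,3⟩)) (.node (.leaf ⟨21,[23,21,23],4,0⟩) (.leaf ⟨24,[21,23,24,21,24,23,24,21],11,6⟩)))))
noncomputable def tc2 : TCL := ⟨[21,22,23,24], [21,22,23], 12, 16, 0xff, 8, 0x1f,
  fun a x => look 0xffff (nth tc2T 0 a) x, fun x => look 0xffff tc2d x, tc2r⟩
noncomputable def tc3T : List ℕ := [0,0,0,0,0,0,0,0,0,0,0,0,0,0,0,0,0,0,0,0,0,tc3t21,tc3t22,tc3t23]
noncomputable def tc3r : Tr Rule := (.node (.node (.node (.leaf ⟨21,[21],0,1⟩) (.leaf ⟨21,[23,21,23],4,2⟩)) (.leaf ⟨23,[23],2,1⟩)) (.node (.node (.leaf ⟨22,[22],1,1⟩) (.leaf ⟨22,[23,22,23],5,2⟩)) (.leaf ⟨21,[22,21,22],3,2⟩)))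
noncomputable def tc3 : TCL := ⟨[21,22,23], [], 8, 16, 0xff, 8, 0xf,
  fun a x => look 0xffff (nth tc3T 0 a) x, fun x => look 0xffff tc3d x, tc3r⟩
noncomputable def tc : List TCL := [tc0, tc1, tc2, tc3]
noncomputable def inW : List (List ℕ) := [[26,24,23,22,24,26,25,21,24,21],
  [23,22,24,26,24,25,22,24,25,23,22,24,21],
  [22,25,24,26,24,25,21,24,23,22],
  [22,24,26,24,21,24,25,24,23,22]]
noncomputable def tcS : List ℕ := [21,22,23,24,25,26]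

end Cfsg.Agent.CG.CT5
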